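import Cfsg.Agent.H179.SLC.Gen

/-!
# Semisimple elements of `SL₂(2ⁿ)` and composition multiplicities (helper179)

* `isSS_h`, `exists_isSS` : `h a` and elements of the non split torus;
* `exists_mult` : the composition multiplicities of a module and the eigenvalue multiplicities of all semisimple elements.
-/

set_option autoImplicit false
set_option linter.unusedSectionVars false

namespace Cfsg.Agent.H179.SLC

open Matrix Cfsg.Agent.H943.SL2Rel Cfsg.Agent.H943.RepAdd Cfsg.Agent.H943.SL2Mod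

variable {k : Type*} [Field k] {F : Type*} [Field F] [Fintype F] [DecidableEq F] (ι : F →+* k)

theorem isSS_h (a : Fˣ) : IsSS ι (h a) (ι a) := by
  refine ⟨![1, 0], ![0, 1], ?_, ?_, by simp⟩
  · funext i
    fin_cases i <;> simp [h, Matrix.mulVec, dotProduct, Fin.sum_univ_two]
  · funext i
    fin_cases i <;> simp [h, Matrix.mulVec, dotProduct, Fin.sum_univ_two]

theorem IsSS.pow {g : SpecialLinearGroup (Fin 2) F} {ζ : k} (hg : IsSS ι g ζ) (n : ℕ) : IsSS ι (g ^ n) (ζ ^ n) := by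
  obtain ⟨v₁, v₂, h1, h2, hD⟩ := hg
  have key : ∀ (v : Fin 2 → k) (ξ : k), (g.1.map ι).mulVec v = ξ • v →
      ((g ^ n).1.map ι).mulVec v = ξ ^ n • v := by
    intro v ξ hv
    have h3 : (g ^ n).1.map ι = (g.1.map ι) ^ n := by
      have h4 : (g ^ n).1 = g.1 ^ n := Matrix.SpecialLinearGroup.coe_pow g n
      rw [h4]
      exact map_pow (RingHom.mapMatrix ι) g.1 n
    rw [h3]
    clear h3
    induction n with
    | zero => simp
    | succ n ih => rw [pow_succ, ← Matrix.mulVec_mulVec, hv, Matrix.mulVec_smul, ih, smul_smul, pow_succ, mul_comm]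
  exact ⟨v₁, v₂, key _ _ h1, by rw [key _ _ h2, inv_pow], hD⟩

/-- a matrix with two independent fixed vectors -/
theorem IsSS.eq_one (hι : Function.Injective ι) {g : SpecialLinearGroup (Fin 2) F} (hg : IsSS ι g (1 : k)) : g = 1 := by
  obtain ⟨v₁, v₂, h1, h2, hD⟩ := hg
  rw [inv_one] at h2
  have e10 : ι (g.1 0 0) * v₁ 0 + ι (g.1 0 1) * v₁ 1 = 1 * v₁ 0 := by
    have := congrFun h1 0
    simpa [Matrix.mulVec, dotProduct, Fin.sum_univ_two] using this
  have e11 : ι (g.1 1 0) * v₁ 0 + ι (g.1 1 1) * v₁ 1 = 1 * v₁ 1 := by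
    have := congrFun h1 1
    simpa [Matrix.mulVec, dotProduct, Fin.sum_univ_two] using this
  have e20 : ι (g.1 0 0) * v₂ 0 + ι (g.1 0 1) * v₂ 1 = 1 * v₂ 0 := by
    have := congrFun h2 0
    simpa [Matrix.mulVec, dotProduct, Fin.sum_univ_two] using this
  have e21 : ι (g.1 1 0) * v₂ 0 + ι (g.1 1 1) * v₂ 1 = 1 * v₂ 1 := by
    have := congrFun h2 1
    simpa [Matrix.mulVec, dotProduct, Fin.sum_univ_two] using this
  have m00 : ι (g.1 0 0) = 1 := by
    have : (ι (g.1 0 0) - 1) * (v₁ 0 * v₂ 1 - v₁ 1 * v₂ 0) = 0 := by linear_combination v₂ 1 * e10 - v₁ 1 * e20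
    exact sub_eq_zero.1 ((mul_eq_zero.1 this).resolve_right hD)
  have m01 : ι (g.1 0 1) = 0 := by
    have : ι (g.1 0 1) * (v₁ 0 * v₂ 1 - v₁ 1 * v₂ 0) = 0 := by linear_combination v₁ 0 * e20 - v₂ 0 * e10
    exact (mul_eq_zero.1 this).resolve_right hD
  have m10 : ι (g.1 1 0) = 0 := by
    have : ι (g.1 1 0) * (v₁ 0 * v₂ 1 - v₁ 1 * v₂ 0) = 0 := by linear_combination v₂ 1 * e11 - v₁ 1 * e21
    exact (mul_eq_zero.1 this).resolve_right hD
  have m11 : ι (g.1 1 1) = 1 := by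
    have : (ι (g.1 1 1) - 1) * (v₁ 0 * v₂ 1 - v₁ 1 * v₂ 0) = 0 := by linear_combination v₁ 0 * e21 - v₂ 0 * e11
    exact sub_eq_zero.1 ((mul_eq_zero.1 this).resolve_right hD)
  apply Matrix.SpecialLinearGroup.ext
  intro i j
  fin_cases i <;> fin_cases j
  · exact hι (by show ι (g.1 0 0) = ι 1; rw [m00, map_one])
  · exact hι (by show ι (g.1 0 1) = ι 0; rw [m01, map_zero])
  · exact hι (by show ι (g.1 1 0) = ι 0; rw [m10, map_zero])
  · exact hι (by show ι (g.1 1 1) = ι 1; rw [m11, map_one])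

theorem IsSS.ne_zero {g : SpecialLinearGroup (Fin 2) F} {ζ : k} (hg : IsSS ι g ζ) : ζ ≠ 0 := by
  rintro rfl
  obtain ⟨v₁, v₂, h1, h2, hD⟩ := hg
  have h3 : (g.1.map ι) * (g⁻¹.1.map ι) = 1 := by
    have h4 : g.1 * (g⁻¹).1 = 1 := by
      have h5 : (g * g⁻¹).1 = g.1 * (g⁻¹).1 := Matrix.SpecialLinearGroup.coe_mul g g⁻¹
      rw [← h5, mul_inv_cancel]
      rfl
    have h5 := congrArg (RingHom.mapMatrix ι) h4
    rw [map_mul, map_one] at h5
    exact h5
  have h4 := mul_eq_one_comm.1 h3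
  have h5 : v₁ = 0 := by
    have h6 := congrArg (fun M : Matrix (Fin 2) (Fin 2) k => M.mulVec v₁) h4
    simp only [Matrix.one_mulVec] at h6
    rw [← h6, ← Matrix.mulVec_mulVec, h1, zero_smul, Matrix.mulVec_zero]
  apply hD
  rw [h5]
  simp

theorem isSS_of_trace {g : SpecialLinearGroup (Fin 2) F} {ζ : k} (hζ : ζ ≠ 0) (h : ι (g.1 0 0 + g.1 1 1) = ζ + ζ⁻¹)
    (hne : ζ ≠ ζ⁻¹) : IsSS ι g ζ := by
  have hdet : ι (g.1 0 0) * ι (g.1 1 1) - ι (g.1 0 1) * ι (g.1 1 0) = 1 := by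
    have h1 := g.2
    rw [Matrix.det_fin_two] at h1
    rw [← map_mul, ← map_mul, ← map_sub, h1, map_one]
  rw [map_add] at h
  -- eigenvectors
  have key : ∀ ξ : k, ξ ≠ 0 → ι (g.1 0 0) + ι (g.1 1 1) = ξ + ξ⁻¹ →
      ∃ v : Fin 2 → k, v ≠ 0 ∧ (g.1.map ι).mulVec v = ξ • v := by
    intro ξ hξ ht
    have h1 : (g.1.map ι - ξ • (1 : Matrix (Fin 2) (Fin 2) k)).det = 0 := by
      rw [Matrix.det_fin_two]
      simp only [Matrix.sub_apply, Matrix.smul_apply, Matrix.one_apply, Matrix.map_apply, smul_eq_mul]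
      simp only [if_true, Fin.zero_eq_one_iff, OfNat.ofNat_ne_one, if_false, mul_one, mul_zero, sub_zero, Fin.one_eq_zero_iff]
      have h2 : ξ * ξ⁻¹ = 1 := mul_inv_cancel₀ hξ
      linear_combination hdet - ξ * ht - h2
    obtain ⟨v, hv, hv2⟩ := Matrix.exists_mulVec_eq_zero_iff.2 h1
    refine ⟨v, hv, ?_⟩
    rw [Matrix.sub_mulVec, Matrix.smul_mulVec, Matrix.one_mulVec, sub_eq_zero] at hv2
    exact hv2
  obtain ⟨v₁, n1, h1⟩ := key ζ hζ h
  obtain ⟨v₂, n2, h2⟩ := key ζ⁻¹ (inv_ne_zero hζ) (by rw [h, inv_inv, add_comm])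
  refine ⟨v₁, v₂, h1, h2, fun hD => ?_⟩
  -- dependent vectors
  obtain ⟨c, hc⟩ : ∃ c : k, v₂ = c • v₁ := by
    by_cases h0 : v₁ 0 = 0
    · have h10 : v₁ 1 ≠ 0 := by
        intro h10
        apply n1
        funext i
        fin_cases i
        · exact h0
        · exact h10
      refine ⟨v₂ 1 / v₁ 1, ?_⟩
      rw [h0, zero_mul, zero_sub, neg_eq_zero] at hD
      have h20 : v₂ 0 = 0 := (mul_eq_zero.1 hD).resolve_left h10
      funext i
      fin_cases i
      · show v₂ 0 = v₂ 1 / v₁ 1 * v₁ 0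
        rw [h20, h0, mul_zero]
      · show v₂ 1 = v₂ 1 / v₁ 1 * v₁ 1
        rw [div_mul_cancel₀ _ h10]
    · refine ⟨v₂ 0 / v₁ 0, ?_⟩
      funext i
      fin_cases i
      · show v₂ 0 = v₂ 0 / v₁ 0 * v₁ 0
        rw [div_mul_cancel₀ _ h0]
      · show v₂ 1 = v₂ 0 / v₁ 0 * v₁ 1
        rw [div_mul_eq_mul_div, eq_div_iff h0]
        linear_combination hD
  have h3 : ζ • v₂ = ζ⁻¹ • v₂ := by
    rw [← h2, hc, Matrix.mulVec_smul, h1, smul_comm]
  have h4 : (ζ - ζ⁻¹) • v₂ = 0 := by rw [sub_smul, h3, sub_self]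
  exact n2 ((smul_eq_zero.1 h4).resolve_left (sub_ne_zero.2 hne))

/-- the elements of `k` fixed by the `q`-th power map -/
theorem mem_range_of_pow (hι : Function.Injective ι) {x : k} (hx : x ^ Fintype.card F = x) : ∃ t : F, ι t = x := by
  classical
  by_contra hcon
  push Not at hcon
  have hq : 1 < Fintype.card F := Fintype.one_lt_card
  let P : Polynomial k := Polynomial.X ^ Fintype.card F - Polynomial.X
  have hP : P ≠ 0 := FiniteField.X_pow_card_sub_X_ne_zero k hq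
  have hdeg : P.natDegree = Fintype.card F := FiniteField.X_pow_card_sub_X_natDegree_eq k hq
  have hsub : insert x (Finset.univ.image ι) ⊆ P.roots.toFinset := by
    intro y hy
    rw [Multiset.mem_toFinset, Polynomial.mem_roots hP, Polynomial.IsRoot.def]
    show (Polynomial.X ^ Fintype.card F - Polynomial.X : Polynomial k).eval y = 0
    rw [Polynomial.eval_sub, Polynomial.eval_pow, Polynomial.eval_X, sub_eq_zero]
    rcases Finset.mem_insert.1 hy with rfl | hy
    · exact hx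
    · obtain ⟨t, -, rfl⟩ := Finset.mem_image.1 hy
      rw [← map_pow, FiniteField.pow_card]
  have h1 := Finset.card_le_card hsub
  rw [Finset.card_insert_of_notMem (by
    intro h
    obtain ⟨t, -, ht⟩ := Finset.mem_image.1 h
    exact hcon t ht), Finset.card_image_of_injective _ hι, Finset.card_univ] at h1
  have h2 := (Multiset.toFinset_card_le P.roots).trans (Polynomial.card_roots' P)
  omega

/-- elements of the non split torus -/
theorem exists_isSS (hι : Function.Injective ι) (p : ℕ) [Fact p.Prime] [CharP k p] [CharP F p] {ζ : k}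
    (hζ : ζ ^ (Fintype.card F + 1) = 1) (hne : ζ ≠ ζ⁻¹) :
    ∃ g : SpecialLinearGroup (Fin 2) F, IsSS ι g ζ := by
  have h0 : ζ ≠ 0 := by
    rintro rfl
    rw [zero_pow (Nat.succ_ne_zero _)] at hζ
    exact zero_ne_one hζ
  have hq : ζ ^ Fintype.card F = ζ⁻¹ := by
    rw [pow_succ] at hζ
    exact eq_inv_of_mul_eq_one_left hζ
  obtain ⟨t, ht⟩ := mem_range_of_pow ι hι (x := ζ + ζ⁻¹) (by
    obtain ⟨n, -, hn⟩ := FiniteField.card F p
    have h1 : (ζ + ζ⁻¹) ^ Fintype.card F = ζ ^ Fintype.card F + ζ⁻¹ ^ Fintype.card F := by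
      rw [hn]
      exact add_pow_char_pow _ _ _ _
    rw [h1, inv_pow, hq, inv_inv, add_comm])
  refine ⟨⟨!![0, -1; 1, t], by simp [Matrix.det_fin_two]⟩, isSS_of_trace ι h0 ?_ hne⟩
  show ι (0 + t) = _
  rw [zero_add, ht]

end Cfsg.Agent.H179.SLC
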