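import Cfsg.Agent.H179.SLC.Vb

/-!
# The modules `V_b` of `SL₂(2ⁿ)` and the semisimple elements (helper179)

`finrank_eig_ss` : the multiplicities of the eigenvalues of any semisimple element (split or not) on `V_b`.
-/

set_option autoImplicit false
set_option linter.unusedSectionVars false

namespace Cfsg.Agent.H179.SLC

open Matrix Cfsg.Agent.H943.SL2Rel Cfsg.Agent.H943.RepAdd Cfsg.Agent.H943.SL2Mod

section Span

variable {k : Type*} [Field k] [CharP k 2]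

theorem lucas2 (b m : ℕ) : ((b.choose m : ℕ) : k) = (((b % 2).choose (m % 2) * (b / 2).choose (m / 2) : ℕ) : k) := by
  rw [CharP.cast_eq_iff_mod_eq k 2]
  exact Choose.choose_modEq_choose_mod_mul_choose_div_nat

theorem ch00 (b m : ℕ) : (((2 * b).choose (2 * m) : ℕ) : k) = (b.choose m : ℕ) := by
  rw [lucas2, show 2 * b % 2 = 0 by omega, show 2 * m % 2 = 0 by omega, show 2 * b / 2 = b by omega,
    show 2 * m / 2 = m by omega, Nat.choose_self, one_mul]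

theorem ch01 (b m : ℕ) : (((2 * b).choose (2 * m + 1) : ℕ) : k) = 0 := by
  rw [lucas2, show 2 * b % 2 = 0 by omega, show (2 * m + 1) % 2 = 1 by omega]
  simp

theorem ch10 (b m : ℕ) : (((2 * b + 1).choose (2 * m) : ℕ) : k) = (b.choose m : ℕ) := by
  rw [lucas2, show (2 * b + 1) % 2 = 1 by omega, show 2 * m % 2 = 0 by omega, show (2 * b + 1) / 2 = b by omega,
    show 2 * m / 2 = m by omega, Nat.choose_zero_right, one_mul]

theorem ch11 (b m : ℕ) : (((2 * b + 1).choose (2 * m + 1) : ℕ) : k) = (b.choose m : ℕ) := by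
  rw [lucas2, show (2 * b + 1) % 2 = 1 by omega, show (2 * m + 1) % 2 = 1 by omega, show (2 * b + 1) / 2 = b by omega,
    show (2 * m + 1) / 2 = m by omega, Nat.choose_self, one_mul]

/-- the monomials in two functions -/
def Sp {X : Type*} (l₁ l₂ : X → k) (b : ℕ) : Submodule k (X → k) :=
  Submodule.span k ((fun j : ℕ => fun z => l₁ z ^ j * l₂ z ^ (b - j)) '' Bb k b)

theorem sq_mem {X : Type*} {l₁ l₂ : X → k} {b : ℕ} {f : X → k} (hf : f ∈ Sp l₁ l₂ b) : f ^ 2 ∈ Sp l₁ l₂ (2 * b) := by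
  induction hf using Submodule.span_induction with
  | mem x hx =>
    obtain ⟨j, hj, rfl⟩ := hx
    refine Submodule.subset_span ⟨2 * j, ⟨by have := hj.1; omega, by rw [ch00]; exact hj.2⟩, ?_⟩
    funext z
    show l₁ z ^ (2 * j) * l₂ z ^ (2 * b - 2 * j) = (l₁ z ^ j * l₂ z ^ (b - j)) ^ 2
    rw [mul_pow, ← pow_mul, ← pow_mul, show 2 * b - 2 * j = (b - j) * 2 by omega, mul_comm 2 j]
  | zero => rw [zero_pow two_ne_zero]; exact Submodule.zero_mem _
  | add x y _ _ hx hy =>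
    have h1 : (x + y) ^ 2 = x ^ 2 + y ^ 2 := by
      funext z
      exact add_pow_char (R := k) (p := 2) (x z) (y z)
    rw [h1]
    exact Submodule.add_mem _ hx hy
  | smul a x _ hx =>
    rw [smul_pow]
    exact Submodule.smul_mem _ _ hx

theorem mul_mem1 {X : Type*} {l₁ l₂ : X → k} {b : ℕ} {f : X → k} (hf : f ∈ Sp l₁ l₂ (2 * b)) :
    f * l₁ ∈ Sp l₁ l₂ (2 * b + 1) := by
  induction hf using Submodule.span_induction with
  | mem x hx =>
    obtain ⟨j, hj, rfl⟩ := hx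
    obtain ⟨i, rfl | rfl⟩ := Nat.even_or_odd' j
    · refine Submodule.subset_span ⟨2 * i + 1, ⟨by have := hj.1; omega, by
        rw [ch11, ← ch00]; exact hj.2⟩, ?_⟩
      funext z
      show l₁ z ^ (2 * i + 1) * l₂ z ^ (2 * b + 1 - (2 * i + 1)) = (l₁ z ^ (2 * i) * l₂ z ^ (2 * b - 2 * i)) * l₁ z
      rw [show 2 * b + 1 - (2 * i + 1) = 2 * b - 2 * i by omega, pow_succ]
      ring
    · exact absurd (ch01 b i) hj.2
  | zero => rw [zero_mul]; exact Submodule.zero_mem _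
  | add x y _ _ hx hy => rw [add_mul]; exact Submodule.add_mem _ hx hy
  | smul a x _ hx => rw [smul_mul_assoc]; exact Submodule.smul_mem _ _ hx

theorem mul_mem2 {X : Type*} {l₁ l₂ : X → k} {b : ℕ} {f : X → k} (hf : f ∈ Sp l₁ l₂ (2 * b)) :
    f * l₂ ∈ Sp l₁ l₂ (2 * b + 1) := by
  induction hf using Submodule.span_induction with
  | mem x hx =>
    obtain ⟨j, hj, rfl⟩ := hx
    obtain ⟨i, rfl | rfl⟩ := Nat.even_or_odd' j
    · refine Submodule.subset_span ⟨2 * i, ⟨by have := hj.1; omega, by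
        rw [ch10, ← ch00]; exact hj.2⟩, ?_⟩
      funext z
      show l₁ z ^ (2 * i) * l₂ z ^ (2 * b + 1 - 2 * i) = (l₁ z ^ (2 * i) * l₂ z ^ (2 * b - 2 * i)) * l₂ z
      have := hj.1
      rw [show 2 * b + 1 - 2 * i = (2 * b - 2 * i) + 1 by omega, pow_succ]
      ring
    · exact absurd (ch01 b i) hj.2
  | zero => rw [zero_mul]; exact Submodule.zero_mem _
  | add x y _ _ hx hy => rw [add_mul]; exact Submodule.add_mem _ hx hy
  | smul a x _ hx => rw [smul_mul_assoc]; exact Submodule.smul_mem _ _ hx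

/-- change of the linear functions -/
theorem mon_mem_Sp {X : Type*} {l₁ l₂ x y : X → k} {a₁ a₂ c₁ c₂ : k} (hx : x = a₁ • l₁ + a₂ • l₂)
    (hy : y = c₁ • l₁ + c₂ • l₂) (b : ℕ) : ∀ m ∈ Bb k b, (fun z => x z ^ m * y z ^ (b - m)) ∈ Sp l₁ l₂ b := by
  induction b using Nat.strong_induction_on with
  | _ b ih =>
    intro m hm
    rcases Nat.eq_zero_or_pos b with rfl | hb0
    · have h0 : m = 0 := Nat.le_zero.1 hm.1
      subst h0
      refine Submodule.subset_span ⟨0, hm, ?_⟩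
      funext z
      show l₁ z ^ 0 * l₂ z ^ (0 - 0) = x z ^ 0 * y z ^ (0 - 0)
      simp
    obtain ⟨b', rfl | rfl⟩ := Nat.even_or_odd' b
    · obtain ⟨m', rfl | rfl⟩ := Nat.even_or_odd' m
      · have h1 := ih b' (by omega) m' ⟨by have := hm.1; omega, by have := hm.2; rwa [ch00] at this⟩
        have h2 := sq_mem h1
        convert h2 using 1
        funext z
        show x z ^ (2 * m') * y z ^ (2 * b' - 2 * m') = (x z ^ m' * y z ^ (b' - m')) ^ 2
        rw [mul_pow, ← pow_mul, ← pow_mul, show 2 * b' - 2 * m' = (b' - m') * 2 by omega, mul_comm 2 m']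
      · exact absurd (ch01 b' m') hm.2
    · obtain ⟨m', rfl | rfl⟩ := Nat.even_or_odd' m
      · have h1 := ih b' (by omega) m' ⟨by have := hm.1; omega, by have := hm.2; rwa [ch10] at this⟩
        have h2 := sq_mem h1
        have h3 := Submodule.add_mem _ (Submodule.smul_mem _ c₁ (mul_mem1 h2)) (Submodule.smul_mem _ c₂ (mul_mem2 h2))
        convert h3 using 1
        funext z
        have hyz : y z = c₁ * l₁ z + c₂ * l₂ z := by rw [hy]; rfl
        show x z ^ (2 * m') * y z ^ (2 * b' + 1 - 2 * m') = c₁ * ((x z ^ m' * y z ^ (b' - m')) ^ 2 * l₁ z) +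
          c₂ * ((x z ^ m' * y z ^ (b' - m')) ^ 2 * l₂ z)
        have := hm.1
        rw [show 2 * b' + 1 - 2 * m' = (b' - m') * 2 + 1 by omega, pow_succ (y z), pow_mul (y z), mul_comm 2 m', pow_mul]
        generalize x z ^ m' = A
        generalize y z ^ (b' - m') = B
        rw [hyz]
        ring
      · have h1 := ih b' (by omega) m' ⟨by have := hm.1; omega, by have := hm.2; rwa [ch11] at this⟩
        have h2 := sq_mem h1
        have h3 := Submodule.add_mem _ (Submodule.smul_mem _ a₁ (mul_mem1 h2)) (Submodule.smul_mem _ a₂ (mul_mem2 h2))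
        convert h3 using 1
        funext z
        have hxz : x z = a₁ * l₁ z + a₂ * l₂ z := by rw [hx]; rfl
        show x z ^ (2 * m' + 1) * y z ^ (2 * b' + 1 - (2 * m' + 1)) = a₁ * ((x z ^ m' * y z ^ (b' - m')) ^ 2 * l₁ z) +
          a₂ * ((x z ^ m' * y z ^ (b' - m')) ^ 2 * l₂ z)
        have := hm.1
        rw [show 2 * b' + 1 - (2 * m' + 1) = (b' - m') * 2 by omega, pow_succ (x z), pow_mul (y z), mul_comm 2 m', pow_mul]
        generalize x z ^ m' = A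
        generalize y z ^ (b' - m') = B
        rw [hxz]
        ring

end Span

variable {k : Type*} [Field k] [CharP k 2] {F : Type*} [Field F] [Fintype F] [DecidableEq F] [CharP F 2] (ι : F →+* k)

/-- the linear function of a vector -/
def lin (v : Fin 2 → k) : F × F → k := fun z => ι z.1 * v 0 + ι z.2 * v 1

/-- `g` is diagonalisable over `k`, with the eigenvalues `ζ`, `ζ⁻¹` -/
def IsSS (g : SpecialLinearGroup (Fin 2) F) (ζ : k) : Prop :=
  ∃ v₁ v₂ : Fin 2 → k, (g.1.map ι).mulVec v₁ = ζ • v₁ ∧ (g.1.map ι).mulVec v₂ = ζ⁻¹ • v₂ ∧ v₁ 0 * v₂ 1 - v₁ 1 * v₂ 0 ≠ 0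

theorem fRep_lin {g : SpecialLinearGroup (Fin 2) F} {v : Fin 2 → k} {ζ : k} (h : (g.1.map ι).mulVec v = ζ • v) :
    fRep k F g (lin ι v) = ζ • lin ι v := by
  have h0 : ι (g.1 0 0) * v 0 + ι (g.1 0 1) * v 1 = ζ * v 0 := by
    have := congrFun h 0
    simpa [Matrix.mulVec, dotProduct, Fin.sum_univ_two] using this
  have h1 : ι (g.1 1 0) * v 0 + ι (g.1 1 1) * v 1 = ζ * v 1 := by
    have := congrFun h 1
    simpa [Matrix.mulVec, dotProduct, Fin.sum_univ_two] using this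
  funext z
  show ι (z.1 * g.1 0 0 + z.2 * g.1 1 0) * v 0 + ι (z.1 * g.1 0 1 + z.2 * g.1 1 1) * v 1 =
    ζ * (ι z.1 * v 0 + ι z.2 * v 1)
  rw [map_add, map_add, map_mul, map_mul, map_mul, map_mul]
  linear_combination ι z.1 * h0 + ι z.2 * h1

theorem fRep_mono {g : SpecialLinearGroup (Fin 2) F} {l₁ l₂ : F × F → k} {ζ ξ : k} (h1 : fRep k F g l₁ = ζ • l₁)
    (h2 : fRep k F g l₂ = ξ • l₂) (i j : ℕ) :
    fRep k F g (fun z => l₁ z ^ i * l₂ z ^ j) = (ζ ^ i * ξ ^ j) • fun z => l₁ z ^ i * l₂ z ^ j := by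
  funext z
  have e1 := congrFun h1 z
  have e2 := congrFun h2 z
  have e1' : l₁ (z.1 * g.1 0 0 + z.2 * g.1 1 0, z.1 * g.1 0 1 + z.2 * g.1 1 1) = ζ * l₁ z := e1
  have e2' : l₂ (z.1 * g.1 0 0 + z.2 * g.1 1 0, z.1 * g.1 0 1 + z.2 * g.1 1 1) = ξ * l₂ z := e2
  show l₁ (z.1 * g.1 0 0 + z.2 * g.1 1 0, z.1 * g.1 0 1 + z.2 * g.1 1 1) ^ i *
    l₂ (z.1 * g.1 0 0 + z.2 * g.1 1 0, z.1 * g.1 0 1 + z.2 * g.1 1 1) ^ j = (ζ ^ i * ξ ^ j) * (l₁ z ^ i * l₂ z ^ j)
  rw [e1', e2']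
  ring

variable [DecidableEq k]

theorem Vb_le_Sp {v₁ v₂ : Fin 2 → k} (hD : v₁ 0 * v₂ 1 - v₁ 1 * v₂ 0 ≠ 0) (b : ℕ) :
    Vb ι b ≤ Sp (lin ι v₁) (lin ι v₂) b := by
  refine (Vb_le ι b).trans (Submodule.span_le.2 ?_)
  rintro _ ⟨m, hm, rfl⟩
  refine mon_mem_Sp (l₁ := lin ι v₁) (l₂ := lin ι v₂) (x := fun z => ι z.1) (y := fun z => ι z.2)
    (a₁ := v₂ 1 / (v₁ 0 * v₂ 1 - v₁ 1 * v₂ 0)) (a₂ := -v₁ 1 / (v₁ 0 * v₂ 1 - v₁ 1 * v₂ 0))
    (c₁ := -v₂ 0 / (v₁ 0 * v₂ 1 - v₁ 1 * v₂ 0)) (c₂ := v₁ 0 / (v₁ 0 * v₂ 1 - v₁ 1 * v₂ 0)) ?_ ?_ b m hm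
  · funext z
    show ι z.1 = v₂ 1 / (v₁ 0 * v₂ 1 - v₁ 1 * v₂ 0) * (ι z.1 * v₁ 0 + ι z.2 * v₁ 1) +
      -v₁ 1 / (v₁ 0 * v₂ 1 - v₁ 1 * v₂ 0) * (ι z.1 * v₂ 0 + ι z.2 * v₂ 1)
    rw [div_mul_eq_mul_div, div_mul_eq_mul_div, ← add_div, eq_div_iff hD]
    ring
  · funext z
    show ι z.2 = -v₂ 0 / (v₁ 0 * v₂ 1 - v₁ 1 * v₂ 0) * (ι z.1 * v₁ 0 + ι z.2 * v₁ 1) +
      v₁ 0 / (v₁ 0 * v₂ 1 - v₁ 1 * v₂ 0) * (ι z.1 * v₂ 0 + ι z.2 * v₂ 1)
    rw [div_mul_eq_mul_div, div_mul_eq_mul_div, ← add_div, eq_div_iff hD]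
    ring

/-- **the multiplicities of the eigenvalues of a semisimple element on `V_b`** -/
theorem finrank_eig_ss (hι : Function.Injective ι) (hs1 : (-1 : k) ^ (Fintype.card F - 1) = 1) {b : ℕ}
    (hb : b ≤ Fintype.card F - 1) {g : SpecialLinearGroup (Fin 2) F} {ζ : k} (hg : IsSS ι g ζ) (ν : k) :
    Module.finrank k (eig (rb ι 2 hs1 hb) g ν) = ((Bf k b).filter fun m => ζ ^ m * ζ⁻¹ ^ (b - m) = ν).card := by
  obtain ⟨v₁, v₂, h1, h2, hD⟩ := hg
  let w : Bf k b → F × F → k := fun m z => lin ι v₁ z ^ (m : ℕ) * lin ι v₂ z ^ (b - m)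
  let f : (Bf k b → k) →ₗ[k] (F × F → k) := Fintype.linearCombination k w
  have hf : ∀ x, f x = ∑ m : Bf k b, x m • w m := fun x => rfl
  have hle : Vb ι b ≤ LinearMap.range f := by
    refine (Vb_le_Sp ι hD b).trans (Submodule.span_le.2 ?_)
    rintro _ ⟨m, hm, rfl⟩
    refine ⟨Pi.single ⟨m, mem_Bf.2 hm⟩ 1, ?_⟩
    rw [hf, Finset.sum_eq_single (⟨m, mem_Bf.2 hm⟩ : Bf k b)]
    · rw [Pi.single_eq_same, one_smul]
    · intro m' _ hne
      rw [Pi.single_eq_of_ne hne, zero_smul]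
    · intro h0
      exact absurd (Finset.mem_univ _) h0
  have hrk : Module.finrank k (LinearMap.range f) ≤ Module.finrank k (Vb ι b) := by
    rw [finrank_Vb ι 2 hι hs1 hb]
    refine (LinearMap.finrank_range_le f).trans ?_
    rw [Module.finrank_fintype_fun_eq_card, Fintype.card_coe]
  have heq : Vb ι b = LinearMap.range f := Submodule.eq_of_le_of_finrank_le hle hrk
  have hinj : Function.Injective f := by
    rw [← LinearMap.ker_eq_bot, ← Submodule.finrank_eq_zero]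
    have h3 := LinearMap.finrank_range_add_finrank_ker f
    rw [← heq, finrank_Vb ι 2 hι hs1 hb, Module.finrank_fintype_fun_eq_card, Fintype.card_coe] at h3
    omega
  let e : (Bf k b → k) ≃ₗ[k] Vb ι b := (LinearEquiv.ofInjective f hinj).trans (LinearEquiv.ofEq _ _ heq.symm)
  have he : ∀ x, ((e x : Vb ι b) : F × F → k) = ∑ m : Bf k b, x m • w m := fun x => rfl
  have h3 := finrank_diag e (rb ι 2 hs1 hb g) (fun m => ζ ^ (m : ℕ) * ζ⁻¹ ^ (b - m)) (by
    intro x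
    apply Subtype.ext
    rw [he]
    show fRep k F g ((e x : Vb ι b) : F × F → k) = _
    rw [he, map_sum]
    refine Finset.sum_congr rfl fun m _ => ?_
    rw [map_smul]
    show x m • fRep k F g (fun z => lin ι v₁ z ^ (m : ℕ) * lin ι v₂ z ^ (b - m)) = _
    rw [fRep_mono (fRep_lin ι h1) (fRep_lin ι h2), smul_smul, mul_comm (x m)]) ν
  unfold eig
  rw [h3, Fintype.card_subtype]
  rw [← Finset.card_map (Function.Embedding.subtype fun m => m ∈ Bf k b)]
  congr 1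
  ext m
  simp only [Finset.mem_map, Finset.mem_filter, Finset.mem_univ, true_and, Function.Embedding.coe_subtype]
  constructor
  · rintro ⟨m', h2, rfl⟩
    exact ⟨m'.2, h2⟩
  · rintro ⟨h2, h3⟩
    exact ⟨⟨m, h2⟩, h3, rfl⟩

end Cfsg.Agent.H179.SLC
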